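import Cfsg.Agent.H736.KB.Cyc
import Cfsg.Agent.H668.XZ.C2
import Cfsg.Agent.H674.XZ.CycA

/-!
# S4791 + S4927: cyclic Sylow subgroups of the component, at least two components (helper292)

`e = |N_A(P) : C_A(P)|`, `p - 1 = e x`: `x0(A) ≥ e + x`, `2 ker ≤ e`, `κ ≥ x + 2`, hence
`n ≥ e / 2 + x + (x + 1) (x + 2) / 2` for `t ≥ 2`.
-/

set_option autoImplicit false
set_option linter.unusedVariables false

open Cfsg Subgroup

namespace Cfsg.Agent.H292.XZ

open Cfsg.Agent.H508.KB Cfsg.Agent.H674.XZ Cfsg.Agent.H668.XZ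

universe u

variable {p : ℕ} [hp : Fact p.Prime]

theorem choose_two_le {κ t : ℕ} (hκ : 1 ≤ κ) (ht : 2 ≤ t) : κ * (κ + 1) ≤ 2 * (κ + t - 1).choose t := by
  have h1 : (κ + 1).choose 2 ≤ (κ + t - 1).choose t := by
    have e1 : (κ + t - 1).choose t = (κ + t - 1).choose (κ - 1) := by
      rw [← Nat.choose_symm_of_eq_add (n := κ + t - 1) (a := t) (b := κ - 1) (by omega)]
    have e2 : (κ + 1).choose 2 = (κ + 1).choose (κ - 1) := by
      rw [← Nat.choose_symm_of_eq_add (n := κ + 1) (a := 2) (b := κ - 1) (by omega)]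
    rw [e1, e2]
    exact Nat.choose_le_choose _ (by omega)
  have h2 : (κ + 1).choose 2 * 2 = (κ + 1) * κ := by
    have h3 := Nat.choose_two_right (κ + 1)
    rw [h3, Nat.add_sub_cancel]
    exact Nat.div_mul_cancel (by
      rw [mul_comm]
      exact (Nat.even_mul_succ_self κ).two_dvd)
  calc κ * (κ + 1) = (κ + 1).choose 2 * 2 := by rw [h2, mul_comm]
    _ ≤ (κ + t - 1).choose t * 2 := Nat.mul_le_mul_right _ h1
    _ = 2 * (κ + t - 1).choose t := mul_comm _ _

/-- the arithmetic -/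
theorem arith {e x X κ f g n C p : ℕ} (hpe : p - 1 = e * x) (hX : e + x ≤ X) (hf : 2 * f ≤ e)
    (hκ : x + 2 ≤ κ) (hC : κ * (κ + 1) ≤ 2 * C) (hn : X + C + g ≤ n + f + κ) (hp0 : 0 < p - 1) : 4 * (p - 1) < n ^ 2 := by
  have he : 0 < e := Nat.pos_of_ne_zero fun h => by rw [h, zero_mul] at hpe; omega
  have h1 : (x + 1) * (x + 2) + 2 * κ ≤ 2 * C := by
    obtain ⟨k, rfl⟩ := Nat.exists_eq_add_of_le hκ
    nlinarith
  have h2 : 2 * e + 2 * x + (x + 1) * (x + 2) ≤ 2 * n + e := by omega
  have h3 : e + 5 * x ≤ 2 * n := by nlinarith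
  have h4 : (e + 5 * x) ^ 2 ≤ (2 * n) ^ 2 := Nat.pow_le_pow_left h3 2
  rw [hpe] at hp0 ⊢
  have h5 : 4 * (e * (5 * x)) ≤ (e + 5 * x) ^ 2 := amgm e (5 * x)
  nlinarith

variable {M : Ideal AlgInt} {A : Type u} [Group A] [Finite A] (S : Subgroup A) [S.Normal]

/-- **Cyclic Sylow subgroups, at least two components.** -/
theorem cyc_row (hM : IsPModular p M) (hcop : ¬ p ∣ S.index) (hs : IsSimpleGroup S)
    (hna : ¬ IsMulCommutative S) (hpS : p ∣ Nat.card S) (P : Sylow p S) (hP : IsCyclic (P : Subgroup S)) {t n : ℕ}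
    (ht : 2 ≤ t) (h : Cnt p M S t n) : 4 * (p - 1) < n ^ 2 := by
  classical
  have hpp : p.Prime := Fact.out
  set Q₀ : Subgroup A := (P : Subgroup S).map S.subtype with hQ₀
  have hcardS : Nat.card Q₀ = Nat.card (P : Subgroup S) :=
    (Nat.card_congr ((P : Subgroup S).equivMapOfInjective _ S.subtype_injective).toEquiv).symm
  have hfac : (Nat.card A).factorization p = (Nat.card S).factorization p := by
    rw [← S.card_mul_index, Nat.factorization_mul Nat.card_pos.ne' S.index_ne_zero_of_finite, Finsupp.add_apply,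
      Nat.factorization_eq_zero_of_not_dvd hcop, add_zero]
  have hcard : Nat.card Q₀ = p ^ (Nat.card A).factorization p := by
    rw [hcardS, hfac]
    exact P.card_eq_multiplicity
  obtain ⟨Q, hQ⟩ : ∃ Q : Sylow p A, (Q : Subgroup A) = Q₀ := ⟨Sylow.ofCard Q₀ hcard, rfl⟩
  have hQc : IsCyclic (Q : Subgroup A) := by
    rw [hQ]
    exact isCyclic_of_surjective ((P : Subgroup S).equivMapOfInjective _ S.subtype_injective).toMonoidHom
      ((P : Subgroup S).equivMapOfInjective _ S.subtype_injective).surjective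
  have hd : p ∣ Nat.card A := hpS.trans (card_subgroup_dvd_card S)
  set N := normalizer ((Q : Subgroup A) : Set A) with hN
  set C := centralizer ((Q : Subgroup A) : Set A) with hC
  set H := hull p S with hHdef
  obtain ⟨hH, hHn⟩ := H96.KB.Hull.hull_eq S hcop P
  -- `e = e' f₀`
  have hCH : C ≤ H := by
    rw [hHdef, hH, hC, hQ]
    exact le_sup_right
  have hSH : S ≤ H := by
    rw [hHdef, hH]
    exact le_sup_left
  have hCN : C ≤ N := centralizer_le_normalizer _
  have hfr : N ⊔ S = ⊤ := by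
    have := Sylow.normalizer_sup_eq_top P
    rw [hN, hQ]
    exact this
  have hNH : N ⊔ H = ⊤ := by
    rw [eq_top_iff, ← hfr]
    exact sup_le_sup_left hSH N
  have h5 : H.relIndex N = H.index := by
    rw [← relIndex_top_right H, ← hNH, relIndex_sup_right]
  have h6 : C.relIndex (H ⊓ N) * (H ⊓ N).relIndex N = ee (Q : Subgroup A) :=
    relIndex_mul_relIndex _ _ _ (le_inf hCH hCN) inf_le_right
  rw [inf_relIndex_right, h5] at h6
  -- `e_S ≤ e'`
  have hNS : (normalizer ((P : Subgroup S) : Set S)).map S.subtype = S ⊓ N := by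
    ext x
    constructor
    · rintro ⟨y, hy, rfl⟩
      refine mem_inf.2 ⟨y.2, ?_⟩
      rw [hN, hQ, mem_normalizer_iff]
      intro z
      constructor
      · rintro ⟨w, hw, rfl⟩
        exact ⟨y * w * y⁻¹, (mem_normalizer_iff.1 hy w).1 hw, rfl⟩
      · rintro ⟨w, hw, hwz⟩
        have hzS : z ∈ S := by
          have h11 : z = (y : A)⁻¹ * (S.subtype w) * y := by rw [hwz, subtype_apply]; group
          rw [h11]
          exact S.mul_mem (S.mul_mem (S.inv_mem y.2) w.2) y.2
        refine ⟨⟨z, hzS⟩, (mem_normalizer_iff.1 hy _).2 ?_, rfl⟩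
        have h11 : y * ⟨z, hzS⟩ * y⁻¹ = w := Subtype.ext hwz.symm
        rw [h11]
        exact hw
    · intro hx
      obtain ⟨hxS, hxN⟩ := mem_inf.1 hx
      refine ⟨⟨x, hxS⟩, ?_, rfl⟩
      rw [SetLike.mem_coe, mem_normalizer_iff]
      intro z
      have h1 := mem_normalizer_iff.1 hxN (z : A)
      rw [hQ] at h1
      have h2 : ∀ w : S, (w : A) ∈ Q₀ ↔ w ∈ (P : Subgroup S) := by
        intro w
        rw [hQ₀]
        constructor
        · rintro ⟨v, hv, hvw⟩
          have : v = w := Subtype.ext hvw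
          rwa [← this]
        · intro hw
          exact ⟨w, hw, rfl⟩
      have h3 := h2 z
      have h4 := h2 (⟨x, hxS⟩ * z * ⟨x, hxS⟩⁻¹)
      exact (h3.symm.trans h1).trans h4
  have hCS : (centralizer ((P : Subgroup S) : Set S)).map S.subtype = S ⊓ C := by
    ext x
    constructor
    · rintro ⟨y, hy, rfl⟩
      refine mem_inf.2 ⟨y.2, ?_⟩
      rw [hC, hQ, mem_centralizer_iff]
      rintro _ ⟨w, hw, rfl⟩
      exact congrArg Subtype.val (mem_centralizer_iff.1 hy w hw)
    · intro hx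
      obtain ⟨hxS, hxC⟩ := mem_inf.1 hx
      refine ⟨⟨x, hxS⟩, ?_, rfl⟩
      rw [hC, hQ] at hxC
      rw [SetLike.mem_coe, mem_centralizer_iff]
      intro z hz
      exact Subtype.ext (mem_centralizer_iff.1 hxC (z : A) ⟨z, hz, rfl⟩)
  have h7 : ee (P : Subgroup S) ≤ C.relIndex (H ⊓ N) := by
    have h8 : ee (P : Subgroup S) = C.relIndex (S ⊓ N) := by
      unfold ee
      rw [← relIndex_map_map_of_injective _ _ S.subtype_injective, hNS, hCS, inf_comm S C,
        ← inf_relIndex_right (C ⊓ S) (S ⊓ N), ← inf_relIndex_right C (S ⊓ N), inf_assoc,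
        inf_eq_right.2 (inf_le_left : S ⊓ N ≤ S)]
    rw [h8]
    exact relIndex_le_of_le_right (inf_le_inf_right N hSH) (by unfold relIndex; exact index_ne_zero_of_finite)
  have h8 : 2 ≤ ee (P : Subgroup S) := by
    have h9 := ee_pos (P : Subgroup S)
    have h10 : ee (P : Subgroup S) ≠ 1 := by
      intro h10
      unfold ee at h10
      rw [relIndex_eq_one] at h10
      exact H736.KB.not_norm_le hs hna hpS P hP h10
    omega
  have hker : ker M S ≤ H.index := by
    rw [H261.KB.Ker.ker_eq S hM hcop]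
    exact Nat.card_le_card_of_surjective ConjClasses.mk ConjClasses.mk_surjective
  -- the numbers of characters
  obtain ⟨x, hx⟩ := exists_x hM Q hQc hd
  obtain ⟨y, hy⟩ := exists_x hM P hP hpS
  have h9 := le_x0_cyclic hM Q hQc hd hx
  have h10 := le_x0_cyclic hM P hP hpS hy
  have h11 := x0_le0 S hM hcop
  rw [← hHdef] at h11
  have hp1 : 0 < p - 1 := by have := hpp.two_le; omega
  have hH0 : 0 < H.index := Nat.pos_of_ne_zero index_ne_zero_of_finite
  -- `x f₀ ≤ y`
  have h12 : H.index * x ≤ y := by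
    have h13 : ee (P : Subgroup S) * (H.index * x) ≤ ee (P : Subgroup S) * y := by
      calc ee (P : Subgroup S) * (H.index * x) = ee (P : Subgroup S) * H.index * x := by ring
        _ ≤ C.relIndex (H ⊓ N) * H.index * x := Nat.mul_le_mul_right _ (Nat.mul_le_mul_right _ h7)
        _ = ee (P : Subgroup S) * y := by rw [h6, ← hx, hy]
    exact Nat.le_of_mul_le_mul_left h13 (by omega)
  have hκ : x + 2 ≤ kap0 p M S := by
    by_contra hlt
    have h13 : kap0 p M S - 1 ≤ x := by omega
    have h14 : H.index * (kap0 p M S - 1) ≤ H.index * x := Nat.mul_le_mul_left _ h13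
    omega
  obtain ⟨g, -, h2⟩ := h
  refine arith hx h9 (f := ker M S) ?_ hκ (choose_two_le (by omega) ht) h2 hp1
  calc 2 * ker M S ≤ C.relIndex (H ⊓ N) * H.index := Nat.mul_le_mul (h8.trans h7) hker
    _ = ee (Q : Subgroup A) := h6

end Cfsg.Agent.H292.XZ
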